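/-
`A1`: two matrices annihilated by the same irreducible polynomial are conjugate in `GL_n`.
-/
import Mathlib

set_option autoImplicit false

namespace Cfsg.Agent.Lib.NCov.A1

open Polynomial Module
open scoped MatrixGroups

section W
variable {F K V : Type*} [Field F] [Field K] [Algebra F K] [AddCommGroup V] [Module F V]

/-- `V` with the `K`-structure given by `φ`. -/
def WW (_φ : K →ₐ[F] Module.End F V) : Type _ := V

noncomputable instance (φ : K →ₐ[F] Module.End F V) : AddCommGroup (WW φ) :=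
  inferInstanceAs (AddCommGroup V)
noncomputable instance (φ : K →ₐ[F] Module.End F V) : Module F (WW φ) :=
  inferInstanceAs (Module F V)
noncomputable instance (φ : K →ₐ[F] Module.End F V) : Module K (WW φ) :=
  Module.compHom V φ.toRingHom

theorem smul_def (φ : K →ₐ[F] Module.End F V) (a : K) (v : WW φ) :
    a • v = (φ a : V →ₗ[F] V) v := rfl

instance (φ : K →ₐ[F] Module.End F V) : IsScalarTower F K (WW φ) :=
  ⟨fun a b v => by
    rw [smul_def, smul_def, map_smul]
    rfl⟩

theorem exists_intertwine [FiniteDimensional F V] [FiniteDimensional F K]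
    (φ₁ φ₂ : K →ₐ[F] Module.End F V) :
    ∃ e : V ≃ₗ[F] V, ∀ (a : K) (v : V), e ((φ₁ a : V →ₗ[F] V) v) = (φ₂ a : V →ₗ[F] V) (e v) := by
  have : FiniteDimensional F (WW φ₁) := inferInstanceAs (FiniteDimensional F V)
  have : FiniteDimensional F (WW φ₂) := inferInstanceAs (FiniteDimensional F V)
  have : FiniteDimensional K (WW φ₁) := Module.Finite.of_restrictScalars_finite F K _
  have : FiniteDimensional K (WW φ₂) := Module.Finite.of_restrictScalars_finite F K _
  have h1 : finrank F K * finrank K (WW φ₁) = finrank F V := Module.finrank_mul_finrank F K (WW φ₁)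
  have h2 : finrank F K * finrank K (WW φ₂) = finrank F V := Module.finrank_mul_finrank F K (WW φ₂)
  have hpos : 0 < finrank F K := Module.finrank_pos
  have h3 : finrank K (WW φ₁) = finrank K (WW φ₂) :=
    Nat.eq_of_mul_eq_mul_left hpos (h1.trans h2.symm)
  let e₀ : WW φ₁ ≃ₗ[K] WW φ₂ := LinearEquiv.ofFinrankEq _ _ h3
  let e₁ : WW φ₁ ≃ₗ[F] WW φ₂ := e₀.restrictScalars F
  refine ⟨e₁, ?_⟩
  intro a v
  exact e₀.map_smul a v

end W

theorem A1_conj_of_aeval_eq_zero {F : Type*} [Field F] [Fintype F] {n : ℕ} {m₀ : F[X]}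
    (hm : Irreducible m₀)
    (J J' : Matrix (Fin n) (Fin n) F) (h : aeval J m₀ = 0) (h' : aeval J' m₀ = 0) :
    ∃ y : GL (Fin n) F, (y : Matrix (Fin n) (Fin n) F) * J = J' * (y : Matrix (Fin n) (Fin n) F) := by
  classical
  haveI : Fact (Irreducible m₀) := ⟨hm⟩
  let K := AdjoinRoot m₀
  have hm0 : m₀ ≠ 0 := hm.ne_zero
  haveI : FiniteDimensional F K := (AdjoinRoot.powerBasis hm0).finite
  let A := (LinearMap.toMatrixAlgEquiv' (R := F) (n := Fin n)).symm
  have key : ∀ J : Matrix (Fin n) (Fin n) F, aeval J m₀ = 0 →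
      ∃ φ : K →ₐ[F] Module.End F (Fin n → F), ∀ v, (φ (AdjoinRoot.root m₀) : _ →ₗ[F] _) v = J.mulVec v := by
    intro J hJ
    have h0 : aeval (A J) m₀ = 0 := by
      have := Polynomial.aeval_algHom_apply A.toAlgHom J m₀
      rw [hJ, map_zero] at this
      exact this
    let φ : K →ₐ[F] Module.End F (Fin n → F) :=
      Ideal.Quotient.liftₐ (Ideal.span {m₀}) (aeval (A J)) (by
        intro a ha
        obtain ⟨b, rfl⟩ := Ideal.mem_span_singleton.1 ha
        simp [h0])
    have hφ : φ (AdjoinRoot.root m₀) = A J := by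
      change (aeval (A J)) X = A J
      simp
    refine ⟨φ, fun v => ?_⟩
    rw [hφ]
    simp [A]
  obtain ⟨φ₁, h₁⟩ := key J h
  obtain ⟨φ₂, h₂⟩ := key J' h'
  obtain ⟨e, he⟩ := exists_intertwine φ₁ φ₂
  refine ⟨⟨LinearMap.toMatrix' (e : _ →ₗ[F] _), LinearMap.toMatrix' (e.symm : _ →ₗ[F] _), ?_, ?_⟩, ?_⟩
  · rw [← LinearMap.toMatrix'_comp]
    simp
  · rw [← LinearMap.toMatrix'_comp]
    simp
  · change LinearMap.toMatrix' (e : _ →ₗ[F] _) * J = J' * LinearMap.toMatrix' (e : _ →ₗ[F] _)
    apply Matrix.toLin'.injective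
    apply LinearMap.ext
    intro v
    have := he (AdjoinRoot.root m₀) v
    rw [h₁, h₂] at this
    simpa [Matrix.toLin'_mul, LinearMap.toMatrix'_mulVec] using this

end Cfsg.Agent.Lib.NCov.A1
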