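/-
`A2`: if every irreducible factor of the characteristic polynomial of `g` has degree divisible by
`deg m₀`, then `F[g]` contains a root of `m₀`.
-/
import Mathlib

set_option autoImplicit false

namespace Cfsg.Agent.Lib.NCov.A2

open Polynomial Module
open UniqueFactorizationMonoid

variable {F : Type*} [Field F] [Fintype F]

/-- Residue field step. -/
theorem exists_root_mod {m₀ p : F[X]} (hm : Irreducible m₀) (hp : Irreducible p)
    (hd : m₀.natDegree ∣ p.natDegree) : ∃ r : F[X], p ∣ aeval r m₀ := by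
  classical
  haveI : Fact (Irreducible m₀) := ⟨hm⟩
  haveI : Fact (Irreducible p) := ⟨hp⟩
  have hm0 : m₀ ≠ 0 := hm.ne_zero
  have hp0 : p ≠ 0 := hp.ne_zero
  haveI : Module.Finite F (AdjoinRoot p) := (AdjoinRoot.powerBasis hp0).finite
  haveI : Finite (AdjoinRoot p) := Module.finite_of_finite F
  have h1 : finrank F (AdjoinRoot m₀) = m₀.natDegree := by
    rw [(AdjoinRoot.powerBasis hm0).finrank, AdjoinRoot.powerBasis_dim]
  have h2 : finrank F (AdjoinRoot p) = p.natDegree := by
    rw [(AdjoinRoot.powerBasis hp0).finrank, AdjoinRoot.powerBasis_dim]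
  obtain ⟨f⟩ := FiniteField.nonempty_algHom_of_finrank_dvd (F := F) (K := AdjoinRoot m₀)
    (L := AdjoinRoot p) (by rw [h1, h2]; exact hd)
  obtain ⟨r, hr⟩ := AdjoinRoot.mk_surjective (f (AdjoinRoot.root m₀))
  refine ⟨r, ?_⟩
  have h3 : aeval (f (AdjoinRoot.root m₀)) m₀ = 0 := by
    rw [Polynomial.aeval_algHom_apply, AdjoinRoot.aeval_eq, AdjoinRoot.mk_self, map_zero]
  rw [← hr] at h3
  have h4 : aeval (AdjoinRoot.mkₐ p r) m₀ = 0 := h3
  rw [Polynomial.aeval_algHom_apply] at h4
  exact AdjoinRoot.mk_eq_zero.1 h4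

/-- `μ` divides a power of `f` once all its irreducible factors divide `f`. -/
theorem exists_dvd_pow {μ f : F[X]} (hμ : μ ≠ 0) (h : ∀ p : F[X], Irreducible p → p ∣ μ → p ∣ f) :
    ∃ N : ℕ, μ ∣ f ^ N := by
  revert hμ h
  refine WfDvdMonoid.induction_on_irreducible μ ?_ ?_ ?_
  · intro h0; exact absurd rfl h0
  · intro u hu _ _
    exact ⟨0, hu.dvd⟩
  · intro a i ha hi ih _ h
    obtain ⟨N, hN⟩ := ih ha (fun p hp hd => h p hp (hd.trans (dvd_mul_left _ _)))
    refine ⟨N + 1, ?_⟩
    rw [pow_succ']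
    exact mul_dvd_mul (h i hi (dvd_mul_right _ _)) hN

/-- CRT: a single `r` works for all irreducible factors. -/
theorem exists_uniform {m₀ μ : F[X]} (hμ : μ ≠ 0)
    (h : ∀ p : F[X], Irreducible p → p ∣ μ → ∃ r : F[X], p ∣ aeval r m₀) :
    ∃ r : F[X], ∀ p : F[X], Irreducible p → p ∣ μ → p ∣ aeval r m₀ := by
  classical
  let s := (normalizedFactors μ).toFinset
  have hs : ∀ q : s, Irreducible (q : F[X]) := fun q =>
    irreducible_of_normalized_factor _ (Multiset.mem_toFinset.1 q.2)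
  have hs' : ∀ q : s, normalize (q : F[X]) = q := fun q =>
    normalize_normalized_factor _ (Multiset.mem_toFinset.1 q.2)
  have hs'' : ∀ q : s, (q : F[X]) ∣ μ := fun q =>
    dvd_of_mem_normalizedFactors (Multiset.mem_toFinset.1 q.2)
  choose x hx using fun q : s => h q (hs q) (hs'' q)
  have hI : Pairwise (Function.onFun IsCoprime fun q : s => Ideal.span {(q : F[X])}) := by
    intro q₁ q₂ hne
    change IsCoprime (Ideal.span {(q₁ : F[X])}) (Ideal.span {(q₂ : F[X])})
    rw [Ideal.isCoprime_span_singleton_iff, (hs q₁).coprime_iff_not_dvd]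
    intro hd
    apply hne
    apply Subtype.ext
    have := (hs q₁).associated_of_dvd (hs q₂) hd
    rw [← hs' q₁, ← hs' q₂]
    exact normalize_eq_normalize_iff.2 ⟨this.dvd, this.symm.dvd⟩
  obtain ⟨r, hr⟩ := Ideal.exists_forall_sub_mem_ideal hI x
  refine ⟨r, fun p hp hd => ?_⟩
  obtain ⟨q, hq, ha⟩ := exists_mem_normalizedFactors_of_dvd hμ hp hd
  let q' : s := ⟨q, Multiset.mem_toFinset.2 hq⟩
  have h1 : (q : F[X]) ∣ r - x q' := Ideal.mem_span_singleton.1 (hr q')
  have h2 : (q : F[X]) ∣ aeval (x q') m₀ := hx q'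
  have h3 : (r - x q') ∣ aeval r m₀ - aeval (x q') m₀ := by
    have := Polynomial.sub_dvd_eval_sub r (x q') (m₀.map (algebraMap F F[X]))
    rwa [eval_map_algebraMap, eval_map_algebraMap] at this
  have h4 : (q : F[X]) ∣ aeval r m₀ := by
    have := dvd_add (h1.trans h3) h2
    simpa using this
  exact ha.dvd.trans h4

theorem A2_exists_J {n : ℕ} (g : Matrix (Fin n) (Fin n) F) {m₀ : F[X]} (hm : Irreducible m₀)
    (hfac : ∀ p : F[X], Irreducible p → p ∣ g.charpoly → m₀.natDegree ∣ p.natDegree) :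
    ∃ J : Matrix (Fin n) (Fin n) F, J * g = g * J ∧ aeval J m₀ = 0 := by
  classical
  let μ := minpoly F g
  have hint : IsIntegral F g := Algebra.IsIntegral.isIntegral g
  have hμ : μ ≠ 0 := minpoly.ne_zero hint
  have hdvd : μ ∣ g.charpoly := Matrix.minpoly_dvd_charpoly g
  obtain ⟨r, hr⟩ := exists_uniform (m₀ := m₀) hμ (fun p hp hd =>
    exists_root_mod hm hp (hfac p hp (hd.trans hdvd)))
  obtain ⟨N, hN⟩ := exists_dvd_pow hμ hr
  let S := AdjoinRoot μ
  let x : S := AdjoinRoot.mkₐ μ r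
  have h1 : aeval x m₀ = AdjoinRoot.mkₐ μ (aeval r m₀) := Polynomial.aeval_algHom_apply _ r m₀
  have hnil : IsNilpotent (aeval x m₀) := by
    refine ⟨N, ?_⟩
    rw [h1, ← map_pow]
    exact AdjoinRoot.mk_eq_zero.2 hN
  have hsep : m₀.Separable := PerfectField.separable_of_irreducible hm
  obtain ⟨a, b, hab⟩ := hsep
  have hunit : IsUnit (aeval x (derivative m₀)) := by
    have h2 : aeval x a * aeval x m₀ + aeval x b * aeval x (derivative m₀) = 1 := by
      have := congrArg (aeval x) hab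
      simpa using this
    have h3 : aeval x b * aeval x (derivative m₀) = 1 - aeval x a * aeval x m₀ := by
      rw [← h2]; ring
    have h4 : IsNilpotent (aeval x a * aeval x m₀) := (Commute.all _ _).isNilpotent_mul_left hnil
    have h5 : IsUnit (aeval x b * aeval x (derivative m₀)) := by
      rw [h3]; exact IsNilpotent.isUnit_one_sub h4
    exact isUnit_of_mul_isUnit_right h5
  obtain ⟨y, ⟨_, hy⟩, _⟩ := Polynomial.existsUnique_nilpotent_sub_and_aeval_eq_zero hnil hunit
  let φ : S →ₐ[F] Matrix (Fin n) (Fin n) F :=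
    Ideal.Quotient.liftₐ (Ideal.span {μ}) (aeval g) (by
      intro c hc
      obtain ⟨d, rfl⟩ := Ideal.mem_span_singleton.1 hc
      simp [μ, minpoly.aeval])
  have hφ : φ (AdjoinRoot.root μ) = g := by
    change (aeval g) X = g
    simp
  refine ⟨φ y, ?_, ?_⟩
  · rw [← hφ, ← map_mul, ← map_mul, mul_comm]
  · rw [Polynomial.aeval_algHom_apply, hy, map_zero]

end Cfsg.Agent.Lib.NCov.A2
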