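/-
`A3`: a matrix `J₀` annihilated by an irreducible polynomial of degree `d`, whose commutant in `GL_n`
has surjective determinant.
-/
import Mathlib

set_option autoImplicit false

namespace Cfsg.Agent.Lib.NCov.A3

open Polynomial Module
open scoped MatrixGroups IntermediateField

variable {F : Type*} [Field F] [Fintype F]

theorem A3_exists_J0 (n d : ℕ) (hd : 2 ≤ d) (hdn : d ∣ n) (hn : 0 < n) :
    ∃ (m₀ : F[X]) (J₀ : Matrix (Fin n) (Fin n) F), Irreducible m₀ ∧ m₀.natDegree = d ∧ aeval J₀ m₀ = 0 ∧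
      ∀ t : F, t ≠ 0 → ∃ c : GL (Fin n) F, (c : Matrix (Fin n) (Fin n) F) * J₀ = J₀ * (c : Matrix (Fin n) (Fin n) F) ∧
        (c : Matrix (Fin n) (Fin n) F).det = t := by
  classical
  obtain ⟨p, hp⟩ := CharP.exists F
  haveI : Fact p.Prime := ⟨CharP.char_is_prime F p⟩
  haveI : NeZero d := ⟨by omega⟩
  let K := FiniteField.Extension F p d
  have hK : finrank F K = d := FiniteField.finrank_extension F p d
  haveI : Module.Finite F K := inferInstance
  haveI : Finite K := Module.finite_of_finite F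
  obtain ⟨θ, hθ⟩ := Field.exists_primitive_element_of_finite_bot F K
  have hint : IsIntegral F θ := Algebra.IsIntegral.isIntegral θ
  have hdeg : (minpoly F θ).natDegree = d := by
    rw [← IntermediateField.adjoin.finrank hint, hθ, IntermediateField.finrank_top', hK]
  obtain ⟨k, rfl⟩ := hdn
  have hk : 0 < k := Nat.pos_of_ne_zero (by rintro rfl; simp at hn)
  obtain ⟨k', rfl⟩ : ∃ k', k = k' + 1 := ⟨k - 1, by omega⟩
  let V := K × (Fin k' → K)
  have hV : finrank F (Fin (d * (k' + 1)) → F) = finrank F V := by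
    rw [Module.finrank_fin_fun, Module.finrank_prod, Module.finrank_pi_fintype]
    simp [hK]
    ring
  let ψ : (Fin (d * (k' + 1)) → F) ≃ₗ[F] V := LinearEquiv.ofFinrankEq _ _ hV
  let Θ : Module.End F V ≃ₐ[F] Matrix (Fin (d * (k' + 1))) (Fin (d * (k' + 1))) F :=
    (ψ.symm.conjAlgEquiv F).trans LinearMap.toMatrixAlgEquiv'
  let Φ : K →ₐ[F] Module.End F V := Algebra.lsmul F F V
  refine ⟨minpoly F θ, Θ (Φ θ), minpoly.irreducible hint, hdeg, ?_, ?_⟩
  · have h1 : aeval (Φ θ) (minpoly F θ) = 0 := by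
      rw [Polynomial.aeval_algHom_apply, minpoly.aeval, map_zero]
    have h2 := Polynomial.aeval_algHom_apply Θ.toAlgHom (Φ θ) (minpoly F θ)
    rw [h1, map_zero] at h2
    exact h2
  · intro t ht
    obtain ⟨u, hu⟩ := FiniteField.norm_surjective F K t
    let C : Module.End F V := LinearMap.prodMap (Algebra.lmul F K u) LinearMap.id
    have hdet : (Θ C).det = t := by
      have h1 : Θ C = LinearMap.toMatrix' (ψ.symm.toLinearMap ∘ₗ C ∘ₗ ψ.toLinearMap) := rfl
      rw [h1, LinearMap.det_toMatrix']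
      have h2 := LinearMap.det_conj C ψ.symm
      rw [LinearEquiv.symm_symm] at h2
      rw [h2, LinearMap.det_prodMap, LinearMap.det_id, mul_one, ← hu, Algebra.norm_apply]
    have hc : (Θ C).det ≠ 0 := by rw [hdet]; exact ht
    refine ⟨Matrix.GeneralLinearGroup.mkOfDetNeZero (Θ C) hc, ?_, ?_⟩
    · change Θ C * Θ (Φ θ) = Θ (Φ θ) * Θ C
      rw [← map_mul, ← map_mul]
      congr 1
      apply LinearMap.ext
      rintro ⟨a, w⟩
      change (u * (θ * a), θ • w) = (θ * (u * a), θ • w)
      rw [mul_left_comm]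
    · exact hdet

end Cfsg.Agent.Lib.NCov.A3
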